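import Cfsg.Agent.Lib.ReeRec.Rows

/-! Ree recognition: the last parameter. -/

set_option autoImplicit false
set_option maxRecDepth 100000

namespace CfsgLib.ReeRec.Cert

open Kron

def hQ0 : E := (.add (.dat (chH [(.v 0), (.v 1), (.add (.v 1) (.c 1)), (.add (.v 1) (.c 2))] [(.c 1), (.v 0), (.add (.v 0) (.c 1)), (.add (.v 0) (.c 2))] spQ) nQ0) (.c 0))

def hQ1 : E := (.add (.dat (chH [(.v 0), (.v 1), (.add (.v 1) (.c 1)), (.add (.v 1) (.c 2))] [(.c 1), (.v 0), (.add (.v 0) (.c 1)), (.add (.v 0) (.c 2))] spQ) nQ1) (.c 0))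

def hQ2 : E := (.add (.dat (chH [(.v 0), (.v 1), (.add (.v 1) (.c 1)), (.add (.v 1) (.c 2))] [(.c 1), (.v 0), (.add (.v 0) (.c 1)), (.add (.v 0) (.c 2))] spQ) nQ2) (.c 0))

def hK0 : E := (.add (.dat (chH [(.v 0), (.v 1), (.add (.v 1) (.c 1)), (.add (.v 1) (.c 2))] [(.c 1), (.v 0), (.add (.v 0) (.c 1)), (.add (.v 0) (.c 2))] spQ) nE0) (.mul (.v 2) (.dat (chH [(.v 0), (.v 1), (.add (.v 1) (.c 1)), (.add (.v 1) (.c 2))] [(.c 1), (.v 0), (.add (.v 0) (.c 1)), (.add (.v 0) (.c 2))] spQ) nF0)))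

def hK1 : E := (.add (.dat (chH [(.v 0), (.v 1), (.add (.v 1) (.c 1)), (.add (.v 1) (.c 2))] [(.c 1), (.v 0), (.add (.v 0) (.c 1)), (.add (.v 0) (.c 2))] spQ) nE1) (.mul (.v 2) (.dat (chH [(.v 0), (.v 1), (.add (.v 1) (.c 1)), (.add (.v 1) (.c 2))] [(.c 1), (.v 0), (.add (.v 0) (.c 1)), (.add (.v 0) (.c 2))] spQ) nF1)))

def hK2 : E := (.add (.dat (chH [(.v 0), (.v 1), (.add (.v 1) (.c 1)), (.add (.v 1) (.c 2))] [(.c 1), (.v 0), (.add (.v 0) (.c 1)), (.add (.v 0) (.c 2))] spQ) nE2) (.mul (.v 2) (.dat (chH [(.v 0), (.v 1), (.add (.v 1) (.c 1)), (.add (.v 1) (.c 2))] [(.c 1), (.v 0), (.add (.v 0) (.c 1)), (.add (.v 0) (.c 2))] spQ) nF2)))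

def ePsi : E := (.add (.add (.add (.add (.mul (.pw (.v 1) 2) (.add (.pw (.v 0) 3) (.mul (.c 2) (.v 0)))) (.mul (.v 1) (.pw (.v 0) 2))) (.v 1)) (.mul (.c 2) (.pw (.v 0) 3))) (.v 0))

def iRes : E := (.add (.add (.pw (.add (.mul hQ2 hK0) (.mul (.c 2) (.mul hQ0 hK2))) 2) (.mul (.c 2) (.mul (.add (.mul hQ2 hK1) (.mul (.c 2) (.mul hQ1 hK2))) (.add (.mul hQ1 hK0) (.mul (.c 2) (.mul hQ0 hK1)))))) (.mul (.mul (.pw (.v 2) 2) (.mul (.mul (.mul (.mul (.mul (.mul (.mul (.mul (.mul (.pw (.v 0) 4) (.pw (.add (.v 0) (.c 2)) 4)) (.pw (.add (.v 0) (.c 1)) 4)) (.v 1)) (.add (.v 1) (.c 2))) (.add (.v 1) (.c 1))) (.pw (.add (.v 1) (.mul (.c 2) (.v 0))) 10)) (.pw (.add (.mul (.v 1) (.v 0)) (.c 1)) 4)) (.add (.mul (.v 1) (.v 0)) (.c 2))) (.pw (.add (.pw (.v 0) 4) (.c 1)) 2))) ePsi))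

theorem iRes_ok : chk 3 80 iRes = true := by decide +kernel

def ePo : E := (.dat (.lv (Nat.pow 2 32) (.c 1) (.pw (.v 0) 8) (.lv (Nat.pow 2 16) (.c 1) (.pw (.v 0) 4) (.lv (Nat.pow 2 8) (.c 1) (.pw (.v 0) 2) (.lv (Nat.pow 2 4) (.c 1) (.v 0) (.lv (Nat.pow 2 2) (.c 1) (.v 0) .nil))))) 0x4040400080408041)

def ePo0 : E := (.add (E.sub [(.c 0)] ePo) (.c 2))

theorem ePo0_ok : chk 1 2 ePo0 = true := by decide +kernel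

def iPsi : E := (.add (.add (.mul (.dat (.lv (Nat.pow 2 128) (.c 1) (.v 1) (.lv (Nat.pow 2 64) (.c 1) (.v 1) (.lv (Nat.pow 2 32) (.c 1) (.pw (.v 0) 9) (.lv (Nat.pow 2 16) (.c 1) (.pw (.v 0) 4) (.lv (Nat.pow 2 8) (.c 1) (.pw (.v 0) 2) (.lv (Nat.pow 2 4) (.c 1) (.v 0) (.lv (Nat.pow 2 2) (.c 1) (.v 0) .nil))))))) 0x404040800400081000000000000000040404000040408080804000080808042) ePsi) (.mul (.dat (.lv (Nat.pow 2 32) (.c 1) (.v 1) (.lv (Nat.pow 2 16) (.c 1) (.pw (.v 0) 7) (.lv (Nat.pow 2 8) (.c 1) (.pw (.v 0) 4) (.lv (Nat.pow 2 4) (.c 1) (.pw (.v 0) 2) (.lv (Nat.pow 2 2) (.c 1) (.v 0) .nil))))) 0x2000488888842111) (E.sub [(.v 1), (.pw (.v 0) 3)] ePsi))) (.mul (.c 2) (.mul (.pw (.add (.pw (.v 0) 3) (.mul (.c 2) (.v 0))) 1) (E.sub [(.v 0)] ePo))))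

theorem iPsi_ok : chk 2 12 iPsi = true := by decide +kernel

def ePt : E := (.dat (.lv (Nat.pow 2 8) (.c 1) (.pw (.v 0) 3) (.lv (Nat.pow 2 4) (.c 1) (.pw (.v 0) 2) (.lv (Nat.pow 2 2) (.c 1) (.v 0) .nil))) 0x8821)

def ePt0 : E := (.add (E.sub [(.c 0)] ePt) (.c 2))

theorem ePt0_ok : chk 1 2 ePt0 = true := by decide +kernel

def iPsi27 : E := (.add (.add (.mul (.dat (.lv (Nat.pow 2 32) (.c 1) (.pw (.v 0) 10) (.lv (Nat.pow 2 16) (.c 1) (.pw (.v 0) 5) (.lv (Nat.pow 2 8) (.c 1) (.pw (.v 0) 3) (.lv (Nat.pow 2 4) (.c 1) (.v 0) (.lv (Nat.pow 2 2) (.c 1) (.v 0) .nil))))) 0x4208048041040401) ePo) (.mul (.dat (.lv (Nat.pow 2 16) (.c 1) (.pw (.v 0) 5) (.lv (Nat.pow 2 8) (.c 1) (.pw (.v 0) 2) (.lv (Nat.pow 2 4) (.c 1) (.v 0) (.lv (Nat.pow 2 2) (.c 1) (.v 0) .nil)))) 0x80010408) (.add (.pw (.v 0) 27) (.mul (.c 2) (.v 0))))) (.mul (.c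 2) ePt))

theorem iPsi27_ok : chk 1 13 iPsi27 = true := by decide +kernel

end CfsgLib.ReeRec.Cert
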